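import Mathlib
import Groth.Prelude.Def_AlgGrp
import Groth.Agent.Lib.Helper24.Blanchard.Main
import Groth.Agent.Lib.Helper3.ReducedSmooth

/-!
# Helper24 — S14633: a smooth connected group acts trivially on a reduced zero-dimensional scheme
-/

set_option autoImplicit false
set_option linter.style.haveILetI false
universe u

open CategoryTheory MonoidalCategory CartesianMonoidalCategory MonObj GrpObj AlgebraicGeometry Limits

namespace Groth.Agent.Lib.Helper24.ZeroDimAct

/-- lifting through a closed immersion from a reduced source -/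
theorem exists_lift_of_isReduced {W X Y : Scheme.{u}} (f : W ⟶ X) (i : Y ⟶ X)
    [IsClosedImmersion i] [IsReduced W] (h : Set.range f ⊆ Set.range i) :
    ∃ l : W ⟶ Y, l ≫ i = f := by
  haveI : Surjective (pullback.fst f i) := by
    constructor
    intro w
    have hw : w ∈ Set.range (pullback.fst f i) := by
      rw [Scheme.Pullback.range_fst]
      exact h ⟨w, rfl⟩
    exact hw
  haveI : IsIso (pullback.fst f i) := isIso_of_isClosedImmersion_of_surjective _
  exact ⟨inv (pullback.fst f i) ≫ pullback.snd f i, by
    rw [Category.assoc, ← pullback.condition, IsIso.inv_hom_id_assoc]⟩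

variable {k : Type u} [Field k]

/-- **S14633** -/
theorem main14633 (G Z : Over (Spec (CommRingCat.of k))) [GrpObj G] [Smooth G.hom]
    [ConnectedSpace ↥G.left] [LocallyOfFiniteType Z.hom] [QuasiCompact Z.hom] [IsReduced Z.left]
    (hdim : topologicalKrullDim ↥Z.left ≤ 0) (a : AlgGrp.Action G Z) : a.act = snd G Z := by
  haveI : IsLocallyNoetherian Z.left := LocallyOfFiniteType.isLocallyNoetherian Z.hom
  haveI : IsLocallyArtinian Z.left := IsLocallyArtinian.of_topologicalKrullDim_le_zero hdim
  haveI : DiscreteTopology Z.left := inferInstance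
  haveI : CompactSpace Z.left := (quasiCompact_iff_compactSpace Z.hom).1 inferInstance
  haveI : Finite Z.left := finite_of_compact_of_discrete
  haveI : IsAffine Z.left := inferInstance
  haveI : IsSeparated Z.hom := inferInstance
  haveI : LocallyQuasiFinite Z.hom :=
    locallyQuasiFinite_iff_isDiscrete_preimage_singleton.2
      (fun x => IsDiscrete.univ.mono (Set.subset_univ _))
  -- `Z ⊗ Z` is discrete
  haveI : LocallyQuasiFinite (fst Z Z).left :=
    inferInstanceAs (LocallyQuasiFinite (pullback.fst Z.hom Z.hom))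
  haveI : IsLocallyArtinian (Z ⊗ Z).left := IsLocallyArtinian.of_locallyQuasiFinite (fst Z Z).left
  haveI : DiscreteTopology (Z ⊗ Z).left := inferInstance
  -- `G ⊗ Z` is reduced
  haveI : Smooth (snd G Z).left := inferInstanceAs (Smooth (pullback.snd G.hom Z.hom))
  haveI : IsReduced (G ⊗ Z).left :=
    Groth.Agent.Lib.Helper3.isReduced_of_smooth_scheme (snd G Z).left
  -- the fibres of `G ⊗ Z → Z` are connected
  haveI : GeometricallyConnected G.hom := Blanchard.geometricallyConnected_of_grpObj G
  haveI : GeometricallyConnected (snd G Z).left :=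
    inferInstanceAs (GeometricallyConnected (pullback.snd G.hom Z.hom))
  let h : G ⊗ Z ⟶ Z ⊗ Z := lift a.act (snd G Z)
  let Δ : Z ⟶ Z ⊗ Z := lift (𝟙 Z) (𝟙 Z)
  let ε : Z ⟶ G ⊗ Z := lift (toUnit Z ≫ η[G]) (𝟙 Z)
  have hεa : ε ≫ a.act = 𝟙 Z := by
    have h1 : ε = (λ_ Z).inv ≫ (η[G] ▷ Z) := by
      apply CartesianMonoidalCategory.hom_ext <;> simp [ε]
    rw [h1, Category.assoc, a.one_act, Iso.inv_hom_id]
  have hε : ε ≫ h = Δ := by
    apply CartesianMonoidalCategory.hom_ext
    · rw [Category.assoc, lift_fst, lift_fst, hεa]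
    · rw [Category.assoc, lift_snd, lift_snd, lift_snd]
  haveI : IsClosedImmersion Δ.left := by
    haveI : IsClosedImmersion (Δ.left ≫ (fst Z Z).left) := by
      rw [← Over.comp_left, lift_fst]
      exact inferInstanceAs (IsClosedImmersion (𝟙 Z.left))
    haveI : IsSeparated (fst Z Z).left :=
      inferInstanceAs (IsSeparated (pullback.fst Z.hom Z.hom))
    exact IsClosedImmersion.of_comp Δ.left (fst Z Z).left
  have hrange : Set.range h.left ⊆ Set.range Δ.left := by
    rintro _ ⟨w, rfl⟩
    let z := (snd G Z).left w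
    have hconn := (snd G Z).left.isConnected_preimage_singleton z
    have himg : (h.left '' ((snd G Z).left ⁻¹' {z})).Subsingleton :=
      (hconn.isPreconnected.image _ h.left.continuous.continuousOn).subsingleton
    have h1 : w ∈ (snd G Z).left ⁻¹' {z} := rfl
    have h2 : ε.left z ∈ (snd G Z).left ⁻¹' {z} := by
      change (snd G Z).left (ε.left z) = z
      rw [← Scheme.Hom.comp_apply, ← Over.comp_left, lift_snd]
      rfl
    have h3 := himg ⟨w, h1, rfl⟩ ⟨_, h2, rfl⟩
    have h4 : h.left (ε.left z) = Δ.left z := by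
      rw [← Scheme.Hom.comp_apply, ← Over.comp_left, hε]
    exact ⟨z, h4.symm.trans h3.symm⟩
  obtain ⟨l, hl⟩ := exists_lift_of_isReduced h.left Δ.left hrange
  have h1 : a.act.left = l := by
    have e1 : a.act.left = h.left ≫ (fst Z Z).left := by rw [← Over.comp_left, lift_fst]
    rw [e1, ← hl, Category.assoc, ← Over.comp_left, lift_fst, Over.id_left, Category.comp_id]
  have h2 : (snd G Z).left = l := by
    have e1 : (snd G Z).left = h.left ≫ (snd Z Z).left := by rw [← Over.comp_left, lift_snd]
    rw [e1, ← hl, Category.assoc, ← Over.comp_left, lift_snd, Over.id_left, Category.comp_id]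
  apply Over.OverMorphism.ext
  rw [h1, h2]

end Groth.Agent.Lib.Helper24.ZeroDimAct
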